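import Mathlib

/-! # Degree of Hilbert polynomials, part 1: the difference operator on polynomials. -/

set_option autoImplicit false

namespace Groth.Agent.H5.Deg

open Polynomial

/-- coefficients of `P(X + m)`. -/
lemma coeff_comp_X_add_C (P : ℚ[X]) (m : ℚ) (k : ℕ) :
    (P.comp (X + C m)).coeff k =
      ∑ i ∈ Finset.range (P.natDegree + 1), P.coeff i * (m ^ (i - k) * (i.choose k : ℚ)) := by
  rw [comp_eq_sum_left, Polynomial.sum_over_range P (by intro n; simp), finsetSum_coeff]
  refine Finset.sum_congr rfl (fun i _ => ?_)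
  rw [coeff_C_mul, coeff_X_add_C_pow]

/-- the difference `P(X + m) - P(X)`. -/
noncomputable def diff (P : ℚ[X]) (m : ℚ) : ℚ[X] := P.comp (X + C m) - P

lemma coeff_diff_of_le (P : ℚ[X]) (m : ℚ) (k : ℕ) (hk : P.natDegree ≤ k) :
    (diff P m).coeff k = 0 := by
  unfold diff
  rw [coeff_sub, coeff_comp_X_add_C, sub_eq_zero]
  by_cases hk' : P.natDegree = k
  · rw [Finset.sum_eq_single k]
    · simp
    · intro i hi hik
      have : i < k := by
        have := Finset.mem_range.mp hi
        omega
      rw [Nat.choose_eq_zero_of_lt this]; simp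
    · intro h
      exfalso; apply h; rw [Finset.mem_range]; omega
  · have hlt : P.natDegree < k := lt_of_le_of_ne hk hk'
    rw [coeff_eq_zero_of_natDegree_lt hlt]
    refine Finset.sum_eq_zero (fun i hi => ?_)
    have : i < k := by
      have := Finset.mem_range.mp hi
      omega
    rw [Nat.choose_eq_zero_of_lt this]; simp

lemma coeff_diff_pred (P : ℚ[X]) (m : ℚ) (hn : 1 ≤ P.natDegree) :
    (diff P m).coeff (P.natDegree - 1) = P.natDegree * m * P.leadingCoeff := by
  unfold diff
  rw [coeff_sub, coeff_comp_X_add_C]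
  obtain ⟨n, hn'⟩ : ∃ n, P.natDegree = n + 1 := ⟨P.natDegree - 1, by omega⟩
  rw [Polynomial.leadingCoeff, hn', Nat.add_sub_cancel, Finset.sum_range_succ, Finset.sum_range_succ]
  have h0 : ∑ i ∈ Finset.range n, P.coeff i * (m ^ (i - n) * (i.choose n : ℚ)) = 0 := by
    refine Finset.sum_eq_zero (fun i hi => ?_)
    rw [Nat.choose_eq_zero_of_lt (Finset.mem_range.mp hi)]; simp
  rw [h0]
  simp only [Nat.sub_self, pow_zero, Nat.choose_self, Nat.cast_one, mul_one, zero_add,
    Nat.add_sub_cancel_left, pow_one, Nat.choose_succ_self_right]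
  push_cast
  ring

/-- the difference of a polynomial of positive degree has degree one less. -/
theorem natDegree_diff (P : ℚ[X]) (m : ℚ) (hm : m ≠ 0) (hn : 1 ≤ P.natDegree) :
    (diff P m).natDegree = P.natDegree - 1 := by
  apply natDegree_eq_of_le_of_coeff_ne_zero
  · rw [natDegree_le_iff_coeff_eq_zero]
    intro N hN
    exact coeff_diff_of_le P m N (by omega)
  · rw [coeff_diff_pred P m hn]
    have h1 : (P.natDegree : ℚ) ≠ 0 := by exact_mod_cast (by omega : P.natDegree ≠ 0)
    have h2 : P.leadingCoeff ≠ 0 := by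
      rw [Ne, leadingCoeff_eq_zero]
      intro h
      rw [h] at hn
      simp at hn
    exact mul_ne_zero (mul_ne_zero h1 hm) h2

theorem diff_eq_zero_of_natDegree_eq_zero (P : ℚ[X]) (m : ℚ) (hn : P.natDegree = 0) :
    diff P m = 0 := by
  obtain ⟨c, rfl⟩ := natDegree_eq_zero.mp hn
  unfold diff
  simp

/-- if `P(X + m) - P(X) = R` with `m ≠ 0`, then either `R = 0` and `P` is constant, or
`deg P = deg R + 1`. -/
theorem natDegree_eq_of_diff (P R : ℚ[X]) (m : ℚ) (hm : m ≠ 0) (h : diff P m = R) :
    (R = 0 ∧ P.natDegree = 0) ∨ (R ≠ 0 ∧ P.natDegree = R.natDegree + 1) := by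
  by_cases hn : P.natDegree = 0
  · left
    exact ⟨by rw [← h, diff_eq_zero_of_natDegree_eq_zero P m hn], hn⟩
  · right
    have hn' : 1 ≤ P.natDegree := Nat.one_le_iff_ne_zero.mpr hn
    have hd := natDegree_diff P m hm hn'
    rw [h] at hd
    refine ⟨?_, by omega⟩
    intro hR
    have := coeff_diff_pred P m hn'
    rw [h, hR, coeff_zero] at this
    have h1 : (P.natDegree : ℚ) ≠ 0 := by exact_mod_cast hn
    have h2 : P.leadingCoeff ≠ 0 := by
      rw [Ne, leadingCoeff_eq_zero]
      intro h
      rw [h] at hn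
      simp at hn
    exact mul_ne_zero (mul_ne_zero h1 hm) h2 this.symm

end Groth.Agent.H5.Deg
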