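import Mathlib
import Groth.Agent.Lib.Helper5.Curve4.Tors1
import Groth.Agent.Lib.Lead.QC.StalkNbhd
import Groth.Agent.Lib.Lead.QC.SuppSES
import Groth.Agent.Lib.Helper1.CohLen

/-! # Degree of Hilbert polynomials, part 3: kernel and cokernel of multiplication by a section of
an invertible module. -/

set_option autoImplicit false
universe u
open CategoryTheory CategoryTheory.Limits AlgebraicGeometry TopologicalSpace Opposite

namespace Groth.Agent.H5.Deg

open Groth.Agent.LD Groth.Agent.LD.QC Groth.Agent.H5.Curve4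

variable {X : Scheme.{u}}

lemma twistBy_surjective_of_le (Q : X.Modules) {L : X.Modules} (σ : unitMod X ⟶ L)
    (W : X.Opens) (hW : W ≤ CohB1.genLocus L σ) (t : Γ(CohB1.tensorMod Q L, W)) :
    ∃ q : Γ(Q, W), (twistBy Q σ).app W q = t := by
  have he := (le_genLocus_iff_isBasisOver L σ W).mp hW
  obtain ⟨q, hq⟩ := (bijective_tmul_of_isBasisOver Q L he W le_rfl).2 t
  refine ⟨q, ?_⟩
  rw [twistBy_app, ← hq]
  show _ = SecTwist.tmul Q L W q (L.presheaf.map (homOfLE le_rfl).op (SecTwist.val σ W))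
  rw [QC.res_self]

/-- the cokernel of multiplication by `σ` has vanishing stalks where `σ` generates. -/
lemma subsingleton_stalk_cokernel_twistBy (Q : X.Modules) {L : X.Modules} (σ : unitMod X ⟶ L)
    (y : X) (hy : y ∈ CohB1.genLocus L σ) :
    Subsingleton ((cokernel (twistBy Q σ)).presheaf.stalk y) := by
  refine subsingleton_of_forall_eq 0 (fun c => ?_)
  obtain ⟨V, hyV, q, rfl⟩ := TopCat.Presheaf.exists_germ_eq (cokernel (twistBy Q σ)).presheaf c
  obtain ⟨W, hWV, hyW, s, hs⟩ := exists_local_lift (cokernel.π (twistBy Q σ)) inferInstance V q y hyV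
  set W' : X.Opens := W ⊓ CohB1.genLocus L σ
  have hyW' : y ∈ W' := ⟨hyW, hy⟩
  have hW'V : W' ≤ V := inf_le_left.trans hWV
  have h1 := TopCat.Presheaf.germ_res_apply (cokernel (twistBy Q σ)).presheaf
    (homOfLE hW'V) y hyW' q
  rw [← h1]
  obtain ⟨t, ht⟩ := twistBy_surjective_of_le Q σ W' inf_le_right
    ((CohB1.tensorMod Q L).presheaf.map (homOfLE (inf_le_left : W' ≤ W)).op s)
  have h2 : (cokernel (twistBy Q σ)).presheaf.map (homOfLE hW'V).op q = 0 := by
    rw [← res_res _ hWV (inf_le_left : W' ≤ W), ← hs, ← app_res, ← ht]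
    change (twistBy Q σ ≫ cokernel.π (twistBy Q σ)).app W' t = 0
    rw [cokernel.condition]
    rfl
  rw [h2]
  exact map_zero _

/-- supports of the kernel and cokernel of multiplication by `σ`. -/
theorem support_kernel_twistBy_subset (Q : X.Modules) {L : X.Modules} (σ : unitMod X ⟶ L) :
    CohB1.support (kernel (twistBy Q σ)) ⊆ CohB1.support Q \ (CohB1.genLocus L σ : Set X) := by
  intro y hy
  refine ⟨support_subset_of_mono (kernel.ι (twistBy Q σ)) hy, fun hgen => ?_⟩
  exact hy (subsingleton_stalk_kernel_twistBy Q σ y hgen)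

/-- the support of a twist by an invertible module. -/
theorem support_tensorMod_subset (Q : X.Modules) (hQ : Q.IsFiniteType) {L : X.Modules}
    (hL : PicF.IsInvertible L) : CohB1.support (CohB1.tensorMod Q L) ⊆ CohB1.support Q := by
  intro y hy
  by_contra hyQ
  have hyQ' : Subsingleton (Q.presheaf.stalk y) := not_not.mp hyQ
  apply hy
  obtain ⟨U, hyU, hU⟩ := exists_nbhd_stalks_zero Q hQ y hyQ'
  obtain ⟨U', e, hyU', he⟩ := (isInvertible_iff_exists_isBasisOver L).mp hL y
  refine subsingleton_of_forall_eq 0 (fun c => ?_)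
  obtain ⟨V, hyV, t, rfl⟩ := TopCat.Presheaf.exists_germ_eq (CohB1.tensorMod Q L).presheaf c
  set W : X.Opens := V ⊓ (U ⊓ U')
  have hyW : y ∈ W := ⟨hyV, hyU, hyU'⟩
  have h1 := TopCat.Presheaf.germ_res_apply (CohB1.tensorMod Q L).presheaf
    (homOfLE (inf_le_left : W ≤ V)) y hyW t
  rw [← h1]
  have hWU' : W ≤ U' := inf_le_right.trans inf_le_right
  obtain ⟨q, hq⟩ := (bijective_tmul_of_isBasisOver Q L he W hWU').2
    ((CohB1.tensorMod Q L).presheaf.map (homOfLE (inf_le_left : W ≤ V)).op t)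
  have hq0 : q = 0 := section_eq_zero_of_stalks Q U hU (inf_le_right.trans inf_le_left) q
  have h2 : (CohB1.tensorMod Q L).presheaf.map (homOfLE (inf_le_left : W ≤ V)).op t = 0 := by
    rw [← hq]
    show SecTwist.tmul Q L W q _ = 0
    rw [hq0]
    exact Curve2.tmul_zero_left Q L W _
  rw [h2]
  exact map_zero _

theorem support_cokernel_twistBy_subset (Q : X.Modules) (hQ : Q.IsFiniteType) {L : X.Modules}
    (hL : PicF.IsInvertible L) (σ : unitMod X ⟶ L) :
    CohB1.support (cokernel (twistBy Q σ)) ⊆ CohB1.support Q \ (CohB1.genLocus L σ : Set X) := by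
  intro y hy
  refine ⟨support_tensorMod_subset Q hQ hL
    (support_subset_of_epi (cokernel.π (twistBy Q σ)) hy), fun hgen => ?_⟩
  exact hy (subsingleton_stalk_cokernel_twistBy Q σ y hgen)

end Groth.Agent.H5.Deg
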