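import Mathlib
import Groth.Agent.Lib.Helper5.Deg.Deg3
import Groth.Agent.Lib.Lead.QC.Compact

/-! # Degree of Hilbert polynomials, part 3b: the cokernel of multiplication by a section is
supported at the zeros of the section (Nakayama). -/

set_option autoImplicit false
universe u
open CategoryTheory CategoryTheory.Limits AlgebraicGeometry TopologicalSpace Opposite

namespace Groth.Agent.H5.Deg

open Groth.Agent.LD Groth.Agent.LD.QC Groth.Agent.H5.Curve4

variable {X : Scheme.{u}}

/-- local lifting through a morphism of a section killed in the cokernel. -/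
lemma exists_local_lift_of_cokernel_eq_zero {A B : X.Modules} (φ : A ⟶ B) (V : X.Opens)
    (s : Γ(B, V)) (hs : (cokernel.π φ).app V s = 0) (y : X) (hy : y ∈ V) :
    ∃ (W : X.Opens) (hW : W ≤ V), y ∈ W ∧ ∃ q : Γ(A, W),
      φ.app W q = B.presheaf.map (homOfLE hW).op s := by
  let S : ShortComplex X.Modules :=
    ShortComplex.mk (kernel.ι (cokernel.π φ)) (cokernel.π φ) (kernel.condition _)
  have hS : S.Exact := ShortComplex.exact_kernel (cokernel.π φ)
  haveI : Mono S.f := inferInstanceAs (Mono (kernel.ι (cokernel.π φ)))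
  obtain ⟨t, ht⟩ := exact_sections' S hS V s hs
  obtain ⟨W, hW, hyW, q, hq⟩ := exists_local_lift (Abelian.factorThruImage φ) inferInstance V t y hy
  refine ⟨W, hW, hyW, q, ?_⟩
  have h1 : φ = Abelian.factorThruImage φ ≫ kernel.ι (cokernel.π φ) := (Abelian.image.fac φ).symm
  have h2 : φ.app W q = (kernel.ι (cokernel.π φ)).app W ((Abelian.factorThruImage φ).app W q) := by
    conv_lhs => rw [h1]
    rfl
  rw [h2, hq, app_res]
  congr 1

/-- a unit multiple of a basis is a basis. -/
lemma IsBasisOver.smul_unit {L : X.Modules} {U : X.Opens} {e : Γ(L, U)} (he : IsBasisOver L U e)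
    (u : Γ(X, U)) (hu : IsUnit u) : IsBasisOver L U (u • e) := by
  intro V hV
  have h1 := he V hV
  have hu' : IsUnit (X.presheaf.map (homOfLE hV).op u) := hu.map (X.presheaf.map (homOfLE hV).op).hom
  have h3 : (fun a : Γ(X, V) => a • L.presheaf.map (homOfLE hV).op (u • e)) =
      (fun a : Γ(X, V) => a • L.presheaf.map (homOfLE hV).op e) ∘
        (fun a : Γ(X, V) => a * X.presheaf.map (homOfLE hV).op u) := by
    funext a
    rw [Function.comp_apply, mul_smul]
    congr 1
    exact smul_res L hV u e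
  rw [h3]
  refine h1.comp ?_
  obtain ⟨w, hw⟩ := hu'
  exact ⟨fun a b hab => by
      have := congrArg (fun z => z * (↑w⁻¹ : Γ(X, V))) hab
      simpa [← hw, mul_assoc] using this,
    fun b => ⟨b * (↑w⁻¹ : Γ(X, V)), by simp [← hw, mul_assoc]⟩⟩

/-- the stalk map of a morphism with vanishing cokernel stalk is surjective on germs. -/
lemma exists_germ_preimage_of_subsingleton_cokernel {A B : X.Modules} (φ : A ⟶ B) (y : X)
    (hsub : Subsingleton ((cokernel φ).presheaf.stalk y)) (V : X.Opens) (hy : y ∈ V) (s : Γ(B, V)) :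
    ∃ (W : X.Opens) (hW : W ≤ V), y ∈ W ∧ ∃ q : Γ(A, W),
      φ.app W q = B.presheaf.map (homOfLE hW).op s := by
  have h0 : (cokernel φ).presheaf.germ V y hy ((cokernel.π φ).app V s) = 0 :=
    Subsingleton.elim _ _
  obtain ⟨W₁, hW₁, hyW₁, h1⟩ := exists_res_eq_zero_of_germ_eq_zero (cokernel φ) y hy _ h0
  rw [← app_res] at h1
  obtain ⟨W, hW, hyW, q, hq⟩ := exists_local_lift_of_cokernel_eq_zero φ W₁ _ h1 y hyW₁
  refine ⟨W, hW.trans hW₁, hyW, q, ?_⟩
  rw [hq, res_res]

/-- **Nakayama**: the cokernel of multiplication by a section `σ` of an invertible module on a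
quasi-coherent module of finite type `Q` is supported at every point of the support of `Q` where
`σ` vanishes. -/
theorem mem_support_cokernel_twistBy (Q : X.Modules) [Q.IsQuasicoherent] (hQ : Q.IsFiniteType)
    {L : X.Modules} (hL : PicF.IsInvertible L) (σ : unitMod X ⟶ L) (y : X)
    (hyQ : y ∈ CohB1.support Q) (hyσ : y ∉ CohB1.genLocus L σ) :
    y ∈ CohB1.support (cokernel (twistBy Q σ)) := by
  intro hsub
  apply hyQ
  obtain ⟨U, e, hyU, he⟩ := (isInvertible_iff_exists_isBasisOver L).mp hL y
  -- the local equation of `σ`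
  obtain ⟨h, hh⟩ := (he U le_rfl).2 (SecTwist.val σ U)
  have hh' : h • e = SecTwist.val σ U := by
    have := hh
    simp only [QC.res_self] at this
    exact this
  -- it is not a unit at `y`
  have hnu : ¬ IsUnit (X.presheaf.germ U y hyU h) := by
    intro hu
    apply hyσ
    have hyb : y ∈ X.basicOpen h := (X.mem_basicOpen h y hyU).mpr hu
    have hble : X.basicOpen h ≤ U := X.basicOpen_le h
    have hunit : IsUnit (X.presheaf.map (homOfLE hble).op h) :=
      RingedSpace.isUnit_res_basicOpen X.toRingedSpace h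
    have hb : IsBasisOver L (X.basicOpen h) (SecTwist.val σ (X.basicOpen h)) := by
      have h1 := IsBasisOver.smul_unit (he.mono hble) _ hunit
      have h2 : X.presheaf.map (homOfLE hble).op h • L.presheaf.map (homOfLE hble).op e =
          SecTwist.val σ (X.basicOpen h) := by
        rw [← smul_res, hh']
        exact SecTwist.map_val σ (homOfLE hble)
      rwa [h2] at h1
    exact ((le_genLocus_iff_isBasisOver L σ _).mpr hb) hyb
  -- every germ of `Q` at `y` is a multiple of the germ of `h`
  have key : ∀ a : Q.presheaf.stalk y, ∃ b : Q.presheaf.stalk y,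
      a = X.presheaf.germ U y hyU h • b := by
    intro a
    obtain ⟨V₀, hyV₀, q₀, rfl⟩ := TopCat.Presheaf.exists_germ_eq Q.presheaf a
    set V : X.Opens := V₀ ⊓ U
    have hyV : y ∈ V := ⟨hyV₀, hyU⟩
    have hVU : V ≤ U := inf_le_right
    obtain ⟨q, hqdef⟩ : ∃ q : Γ(Q, V), q = Q.presheaf.map (homOfLE (inf_le_left : V ≤ V₀)).op q₀ :=
      ⟨_, rfl⟩
    have hq : Q.presheaf.germ V y hyV q = Q.presheaf.germ V₀ y hyV₀ q₀ := by
      rw [hqdef]; exact germ_res Q y inf_le_left hyV q₀
    rw [← hq]
    obtain ⟨W, hWV, hyW, q', hq'⟩ := exists_germ_preimage_of_subsingleton_cokernel (twistBy Q σ) y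
      hsub V hyV (SecTwist.tmul Q L V q (L.presheaf.map (homOfLE hVU).op e))
    have hWU : W ≤ U := hWV.trans hVU
    have h1 : SecTwist.tmul Q L W (X.presheaf.map (homOfLE hWU).op h • q')
        (L.presheaf.map (homOfLE hWU).op e) =
        SecTwist.tmul Q L W (Q.presheaf.map (homOfLE hWV).op q)
          (L.presheaf.map (homOfLE hWU).op e) := by
      rw [tmul_smul_left, ← tmul_smul_right, ← smul_res, hh']
      have h2 : L.presheaf.map (homOfLE hWU).op (SecTwist.val σ U) = SecTwist.val σ W :=
        SecTwist.map_val σ (homOfLE hWU)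
      rw [h2, ← twistBy_app, hq', tmul_res, res_res L]
    have h3 := (bijective_tmul_of_isBasisOver Q L he W hWU).1 h1
    refine ⟨Q.presheaf.germ W y hyW q', ?_⟩
    rw [← germ_res Q y hWV hyW q, ← h3, germ_smul, sgerm_res]
    rfl
  -- Nakayama
  haveI : @Module.Finite (X.presheaf.stalk y) (Q.presheaf.stalk y) _ _ (QC.stalkModule Q y) :=
    Groth.Agent.H1.CohLen.finite_stalk Q hQ y
  letI : Module (X.presheaf.stalk y) (Q.presheaf.stalk y) := QC.stalkModule Q y
  have hle : (⊤ : Submodule (X.presheaf.stalk y) (Q.presheaf.stalk y)) ≤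
      IsLocalRing.maximalIdeal (X.presheaf.stalk y) • ⊤ := by
    intro a _
    obtain ⟨b, rfl⟩ := key a
    exact Submodule.smul_mem_smul ((IsLocalRing.mem_maximalIdeal _).mpr hnu) Submodule.mem_top
  have hbot := Submodule.eq_bot_of_le_smul_of_le_jacobson_bot _ _ Module.Finite.fg_top hle
    (IsLocalRing.maximalIdeal_le_jacobson _)
  exact ⟨fun a b => by
    have ha : a ∈ (⊤ : Submodule (X.presheaf.stalk y) (Q.presheaf.stalk y)) := Submodule.mem_top
    have hb : b ∈ (⊤ : Submodule (X.presheaf.stalk y) (Q.presheaf.stalk y)) := Submodule.mem_top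
    rw [hbot] at ha hb
    rw [(Submodule.mem_bot _).mp ha, (Submodule.mem_bot _).mp hb]⟩

end Groth.Agent.H5.Deg
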