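import Mathlib
import Groth.Agent.Lib.Helper5.VAmple.H
import Groth.Agent.Lib.Lead.QC.AmpleBasis
import Groth.Agent.Lib.Lead.QC.Mon

/-! # Degree of Hilbert polynomials, part 4: sections of powers of an ample module separating a
point from a proper specialisation. -/

set_option autoImplicit false
universe u
open CategoryTheory CategoryTheory.Limits AlgebraicGeometry TopologicalSpace Opposite

namespace Groth.Agent.H5.Deg

open Groth.Agent.LD Groth.Agent.LD.QC

variable {X : Scheme.{u}}

/-- a section of a positive power of an ample module not vanishing at a given point. -/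
theorem exists_section_mem_genLocus (L : X.Modules) (hA : CohB1.IsAmple L) (η : X) :
    ∃ (m : ℕ) (σ : unitMod X ⟶ CohB1.tensorPow L m), 0 < m ∧ η ∈ CohB1.genLocus _ σ := by
  obtain ⟨n, s, hs, -⟩ := hA.2.2 η
  exact ⟨n + 1, s, Nat.succ_pos n, hs⟩

theorem exists_section_separating_aux [CompactSpace X] [QuasiSeparatedSpace X] (M : X.Modules)
    (hM : PicF.IsInvertible M) (g : unitMod X ⟶ M) (haff : IsAffineOpen (CohB1.genLocus M g))
    (η η' : X) (hg' : η' ∈ CohB1.genLocus M g) (hsp : η ⤳ η') (hne : ¬ η' ⤳ η) :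
    ∃ (N : ℕ) (σ₀ : unitMod X ⟶ CohB1.tensorPow M N), 0 < N ∧ η ∈ CohB1.genLocus _ σ₀ ∧
      η' ∉ CohB1.genLocus _ σ₀ := by
  haveI : M.IsQuasicoherent := qc_of_isInvertible M hM
  have hg : η ∈ CohB1.genLocus M g := hsp.mem_open (CohB1.genLocus M g).2 hg'
  -- a function on `U` vanishing at `η'` but not at `η`
  have hopen : IsOpen (closure ({η'} : Set X))ᶜ := isClosed_closure.isOpen_compl
  have hηV : η ∈ (closure ({η'} : Set X))ᶜ := by
    intro h
    exact hne (specializes_iff_mem_closure.mpr h)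
  obtain ⟨b, hbV, hbη⟩ := haff.exists_basicOpen_le (V := ⟨_, hopen⟩) ⟨η, hηV⟩ hg
  have hbη' : η' ∉ X.basicOpen b := fun h => hbV h (subset_closure rfl)
  obtain ⟨n₀, hn₀⟩ := Groth.Agent.H5.VAmple.exists_section_eq_smul_pow M hM g b
  obtain ⟨t, ht⟩ := hn₀ (max n₀ 1) (le_max_left _ _)
  have hN : 0 < max n₀ 1 := lt_of_lt_of_le Nat.one_pos (le_max_right _ _)
  refine ⟨max n₀ 1, homOfSection _ t, hN, ?_⟩
  -- the basis of `M^N` over `U`
  have hbasis : IsBasisOver (CohB1.tensorPow M (max n₀ 1)) (CohB1.genLocus M g)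
      (SecTwist.val (SecTwist.powHom g (max n₀ 1)) (CohB1.genLocus M g)) :=
    (le_genLocus_iff_isBasisOver _ _ _).mp (le_genLocus_powHom hM g (max n₀ 1))
  have hval : SecTwist.val (homOfSection _ t) (CohB1.genLocus M g) =
      b • SecTwist.val (SecTwist.powHom g (max n₀ 1)) (CohB1.genLocus M g) := by
    rw [val_homOfSection]; exact ht
  have key : ∀ (W : X.Opens) (hW : W ≤ CohB1.genLocus M g),
      W ≤ CohB1.genLocus _ (homOfSection (CohB1.tensorPow M (max n₀ 1)) t) ↔
      IsUnit (X.presheaf.map (homOfLE hW).op b) := by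
    intro W hW
    rw [le_genLocus_iff_isBasisOver]
    have h1 : SecTwist.val (homOfSection (CohB1.tensorPow M (max n₀ 1)) t) W =
        X.presheaf.map (homOfLE hW).op b •
        (CohB1.tensorPow M (max n₀ 1)).presheaf.map (homOfLE hW).op
          (SecTwist.val (SecTwist.powHom g (max n₀ 1)) (CohB1.genLocus M g)) := by
      have e1 := SecTwist.map_val (homOfSection (CohB1.tensorPow M (max n₀ 1)) t) (homOfLE hW)
      rw [← e1, hval]
      exact smul_res _ hW b _
    rw [h1]
    exact (hbasis.mono hW).smul_iff _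
  constructor
  · have hle : X.basicOpen b ≤ CohB1.genLocus M g := X.basicOpen_le b
    exact ((key _ hle).mpr (RingedSpace.isUnit_res_basicOpen X.toRingedSpace b)) hbη
  · intro h
    apply hbη'
    have hW : CohB1.genLocus _ (homOfSection (CohB1.tensorPow M (max n₀ 1)) t) ⊓
        CohB1.genLocus M g ≤ CohB1.genLocus M g := inf_le_right
    have hu := (key _ hW).mp inf_le_left
    have hη'W : η' ∈ CohB1.genLocus _ (homOfSection (CohB1.tensorPow M (max n₀ 1)) t) ⊓
        CohB1.genLocus M g := ⟨h, hg'⟩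
    rw [X.mem_basicOpen b η' hg']
    have := hu.map (X.presheaf.germ _ η' hη'W).hom
    rwa [sgerm_res] at this

/-- a section of a positive power of an ample module vanishing at `η'` but not at `η`, when `η`
is not a specialisation of `η'`. -/
theorem exists_section_separating (L : X.Modules) (hA : CohB1.IsAmple L) (η η' : X)
    (hsp : η ⤳ η') (hne : ¬ η' ⤳ η) :
    ∃ (m : ℕ) (σ : unitMod X ⟶ CohB1.tensorPow L m), 0 < m ∧ η ∈ CohB1.genLocus _ σ ∧
      η' ∉ CohB1.genLocus _ σ := by
  have hL := hA.1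
  haveI := hA.2.1
  haveI : X.IsSeparated := isSeparated_of_affine_genLocus L hL hA.2.2
  haveI : QuasiSeparatedSpace X := inferInstance
  haveI : L.IsQuasicoherent := qc_of_isInvertible L hL
  obtain ⟨n, g, hg', haff⟩ := hA.2.2 η'
  obtain ⟨N, σ₀, hN, h1, h2⟩ := exists_section_separating_aux (CohB1.tensorPow L (n + 1))
    (isInvertible_tensorPow hL (n + 1)) g haff η η' hg' hsp hne
  refine ⟨powIdx (n + 1) N, σ₀ ≫ (powPowIso L (n + 1) N).hom, ?_, ?_, ?_⟩
  · rw [powIdx_eq]; exact Nat.mul_pos (Nat.succ_pos n) hN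
  · rw [genLocus_comp_iso]; exact h1
  · rw [genLocus_comp_iso]; exact h2

end Groth.Agent.H5.Deg
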