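import Mathlib
import Groth.Agent.Lib.Helper5.HP.HP4
import Groth.Agent.Lib.Lead.PN.ClosedSubEuler

/-! # Degree of Hilbert polynomials, part 5: twists and positivity. -/

set_option autoImplicit false
universe u
open CategoryTheory CategoryTheory.Limits AlgebraicGeometry TopologicalSpace Opposite

namespace Groth.Agent.H5.Deg

open Groth.Agent.LD Groth.Agent.LD.QC Groth.Agent.H5.HP

variable (k : Type u) [Field k] (X : Scheme.{u}) [X.Over (Spec (CommRingCat.of k))]

/-- the Hilbert polynomial of a twist. -/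
theorem isHilbPoly_twist (L : X.Modules) (hL : PicF.IsInvertible L) (Q : X.Modules)
    [Q.IsQuasicoherent] (m : ℕ) {P : Polynomial ℚ} (hP : ShStab.IsHilbPoly k X L Q P) :
    ShStab.IsHilbPoly k X L (CohB1.tensorMod Q (CohB1.tensorPow L m))
      (P.comp (Polynomial.X + Polynomial.C (m : ℚ))) := by
  haveI : L.IsQuasicoherent := qc_of_isInvertible L hL
  intro t
  have m1 : IsMon Q L (CohB1.tensorMod (CohB1.tensorMod Q (CohB1.tensorPow L m))
      (CohB1.tensorPow L t)) (1 + 0 + 0) (0 + m + t) :=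
    ((isMon_left Q L).tensor (isMon_powRight Q L m)).tensor (isMon_powRight Q L t)
  have m2 : IsMon Q L (CohB1.tensorMod Q (CohB1.tensorPow L (m + t))) (1 + 0) (0 + (m + t)) :=
    (isMon_left Q L).tensor (isMon_powRight Q L (m + t))
  obtain ⟨e⟩ := (m1.cast (by simp) (by ring)).iso m2
  have h1 : Curv2.euler k X (ShStab.twist X L (CohB1.tensorMod Q (CohB1.tensorPow L m)) t) =
      Curv2.euler k X (ShStab.twist X L Q (m + t)) := Curve.euler_iso k X e
  rw [h1, hP (m + t)]
  simp only [Polynomial.eval_comp, Polynomial.eval_add, Polynomial.eval_X, Polynomial.eval_C]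
  congr 1
  push_cast
  ring

variable [IsProper (X ↘ Spec (CommRingCat.of k))]

/-- the Hilbert polynomial is eventually non-negative. -/
theorem eval_nonneg_eventually (L : X.Modules) (hA : CohB1.IsAmple L) (Q : X.Modules)
    (hQ : Coh.IsCoh Q) {P : Polynomial ℚ} (hP : ShStab.IsHilbPoly k X L Q P) :
    ∃ n₀ : ℕ, ∀ n : ℕ, n₀ ≤ n → 0 ≤ P.eval (n : ℚ) := by
  obtain ⟨n₀, hn₀⟩ := PN.AmS.serre_vanishing_of_isAmple k (X ↘ Spec (CommRingCat.of k)) L hA.1 hA
    Q hQ
  refine ⟨n₀, fun n hn => ?_⟩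
  rw [← hP n]
  have he := Curve.euler_eq_sum k X (CohB1.tensorMod Q (CohB1.tensorPow L n)) 0
    (fun p hp => hn₀ n hn p hp)
  have he' : Curv2.euler k X (ShStab.twist X L Q n) =
      (Module.finrank k (Coh.HH X (CohB1.tensorMod Q (CohB1.tensorPow L n)) 0) : ℤ) := by
    rw [show ShStab.twist X L Q n = CohB1.tensorMod Q (CohB1.tensorPow L n) from rfl, he]
    simp
  rw [he']
  positivity

/-- **positivity**: the Hilbert polynomial of a nonzero coherent module has positive leading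
coefficient. -/
theorem leadingCoeff_pos (L : X.Modules) (hA : CohB1.IsAmple L) (Q : X.Modules)
    (hQ : Coh.IsCoh Q) (hQ0 : ¬ IsZero Q) {P : Polynomial ℚ}
    (hP : ShStab.IsHilbPoly k X L Q P) : 0 < P.leadingCoeff := by
  obtain ⟨n₀, hn₀⟩ := eval_nonneg_eventually k X L hA Q hQ hP
  have h1 : 0 ≤ P.leadingCoeff := by
    apply PN.leadingCoeff_nonneg_of_eventually P (n₀ : ℤ)
    intro n hn
    obtain ⟨n', rfl⟩ : ∃ n' : ℕ, n = (n' : ℤ) := ⟨n.toNat, by omega⟩
    have hcast : (((n' : ℕ) : ℤ) : ℚ) = (n' : ℚ) := by push_cast; rfl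
    rw [hcast]
    exact hn₀ n' (by exact_mod_cast hn)
  have h2 : P.leadingCoeff ≠ 0 := by
    rw [Ne, Polynomial.leadingCoeff_eq_zero]
    intro h
    rw [h] at hP
    exact hQ0 (isZero_of_isHilbPoly_zero k X L hA Q hQ hP)
  exact lt_of_le_of_ne h1 h2.symm

end Groth.Agent.H5.Deg
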