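import Mathlib

/-! # Degree of Hilbert polynomials, part 2: the Krull dimension of closed subsets. -/

set_option autoImplicit false

namespace Groth.Agent.H5.Deg

open TopologicalSpace Order

variable {X : Type*} [TopologicalSpace X]

/-- the dimension of a subset, through chains of irreducible closed subsets of the ambient
space contained in it. -/
noncomputable def dimX (A : Set X) : WithBot ℕ∞ :=
  krullDim {T : IrreducibleCloseds X // (T : Set X) ⊆ A}

lemma isIrreducible_preimage_val {A : Set X} {T : Set X} (hT : IsIrreducible T) (hTA : T ⊆ A) :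
    IsIrreducible ((Subtype.val : A → X) ⁻¹' T) := by
  obtain ⟨⟨t, ht⟩, hpre⟩ := hT
  refine ⟨⟨⟨t, hTA ht⟩, ht⟩, ?_⟩
  intro u v hu hv ⟨a, haT, hau⟩ ⟨b, hbT, hbv⟩
  obtain ⟨U, hU, rfl⟩ := isOpen_induced_iff.mp hu
  obtain ⟨V, hV, rfl⟩ := isOpen_induced_iff.mp hv
  obtain ⟨c, hcT, hcU, hcV⟩ := hpre U V hU hV ⟨a.1, haT, hau⟩ ⟨b.1, hbT, hbv⟩
  exact ⟨⟨c, hTA hcT⟩, hcT, hcU, hcV⟩

/-- from irreducible closed subsets of `X` inside `A` to irreducible closed subsets of `A`. -/
def down (A : Set X) (T : {T : IrreducibleCloseds X // (T : Set X) ⊆ A}) : IrreducibleCloseds A :=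
  ⟨(Subtype.val : A → X) ⁻¹' (T.1 : Set X), isIrreducible_preimage_val T.1.isIrreducible T.2,
    T.1.isClosed.preimage continuous_subtype_val⟩

lemma down_strictMono (A : Set X) : StrictMono (down A) := by
  intro T T' h
  have hle : (T.1 : Set X) ⊆ T'.1 := (show T.1 ≤ T'.1 from h.le)
  refine lt_of_le_of_ne (fun a ha => hle ha) ?_
  intro heq
  apply h.ne
  apply Subtype.ext
  apply IrreducibleCloseds.ext
  apply Set.Subset.antisymm hle
  intro x hx
  have hxA : x ∈ A := T'.2 hx
  have : (⟨x, hxA⟩ : A) ∈ (down A T' : Set A) := hx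
  rw [← heq] at this
  exact this

/-- from irreducible closed subsets of a closed subset `A` to those of `X`. -/
def up {A : Set X} (hA : IsClosed A) (s : IrreducibleCloseds A) :
    {T : IrreducibleCloseds X // (T : Set X) ⊆ A} :=
  ⟨⟨Subtype.val '' (s : Set A), s.isIrreducible.image _ continuous_subtype_val.continuousOn,
    (hA.isClosedEmbedding_subtypeVal).isClosedMap _ s.isClosed⟩, by
      rintro _ ⟨a, -, rfl⟩; exact a.2⟩

lemma up_strictMono {A : Set X} (hA : IsClosed A) : StrictMono (up hA) := by
  intro s t h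
  have hle : (s : Set A) ⊆ t := (show s ≤ t from h.le)
  refine lt_of_le_of_ne (Set.image_mono hle) ?_
  intro heq
  apply h.ne
  apply IrreducibleCloseds.ext
  have h2 : Subtype.val '' (s : Set A) = Subtype.val '' (t : Set A) :=
    congrArg (fun T : {T : IrreducibleCloseds X // (T : Set X) ⊆ A} => (T.1 : Set X)) heq
  exact Subtype.val_injective.image_injective h2

theorem topologicalKrullDim_eq_dimX {A : Set X} (hA : IsClosed A) :
    topologicalKrullDim A = dimX A :=
  le_antisymm (krullDim_le_of_strictMono _ (up_strictMono hA))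
    (krullDim_le_of_strictMono _ (down_strictMono A))

lemma dimX_mono {A B : Set X} (h : A ⊆ B) : dimX A ≤ dimX B :=
  krullDim_le_of_strictMono (fun T => ⟨T.1, T.2.trans h⟩) (fun _ _ h => h)

/-- a proper closed subset of an irreducible closed set has smaller dimension. -/
theorem dimX_add_one_le {Y Z : Set X} (hY : IsIrreducible Y) (hYc : IsClosed Y) (hZY : Z ⊆ Y)
    (hne : Z ≠ Y) : dimX Z + 1 ≤ dimX Y := by
  by_cases hemp : IsEmpty {T : IrreducibleCloseds X // (T : Set X) ⊆ Z}
  · unfold dimX
    rw [krullDim_eq_bot]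
    simp
  · rw [not_isEmpty_iff] at hemp
    unfold dimX
    rw [← krullDim_WithTop]
    let Ytop : {T : IrreducibleCloseds X // (T : Set X) ⊆ Y} := ⟨⟨Y, hY, hYc⟩, subset_rfl⟩
    let f : WithTop {T : IrreducibleCloseds X // (T : Set X) ⊆ Z} →
        {T : IrreducibleCloseds X // (T : Set X) ⊆ Y} := fun w =>
      match w with
      | ⊤ => Ytop
      | (T : {T : IrreducibleCloseds X // (T : Set X) ⊆ Z}) => ⟨T.1, T.2.trans hZY⟩
    refine krullDim_le_of_strictMono f ?_
    intro a b hab
    match a, b, hab with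
    | ⊤, _, h => exact absurd h (not_top_lt)
    | (T : {T : IrreducibleCloseds X // (T : Set X) ⊆ Z}), ⊤, _ =>
      refine lt_of_le_of_ne (T.2.trans hZY) ?_
      intro heq
      apply hne
      have h2 : (T.1 : Set X) = Y :=
        congrArg (fun T : {T : IrreducibleCloseds X // (T : Set X) ⊆ Y} => (T.1 : Set X)) heq
      exact Set.Subset.antisymm hZY (h2 ▸ T.2)
    | (T : {T : IrreducibleCloseds X // (T : Set X) ⊆ Z}),
      (T' : {T : IrreducibleCloseds X // (T : Set X) ⊆ Z}), h =>
      have h' : T < T' := WithTop.coe_lt_coe.mp h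
      exact h'

/-- the dimension of a union of two closed sets. -/
theorem dimX_union {A B : Set X} (hA : IsClosed A) (hB : IsClosed B) :
    dimX (A ∪ B) = max (dimX A) (dimX B) := by
  apply le_antisymm
  · unfold dimX krullDim
    rw [iSup_le_iff]
    intro l
    have hlast := (l.last).2
    have hirr := (l.last).1.isIrreducible
    have hor : ((l.last).1 : Set X) ⊆ A ∨ ((l.last).1 : Set X) ⊆ B := by
      have := (isPreirreducible_iff_isClosed_union_isClosed.mp hirr.isPreirreducible) A B hA hB hlast
      exact this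
    have hle : ∀ i, ((l i).1 : Set X) ⊆ (l.last).1 := fun i =>
      (show (l i).1 ≤ (l.last).1 from l.monotone (Fin.le_last i))
    rcases hor with h | h
    · refine le_trans ?_ (le_max_left _ _)
      let l' : LTSeries {T : IrreducibleCloseds X // (T : Set X) ⊆ A} :=
        { length := l.length
          toFun := fun i => ⟨(l i).1, (hle i).trans h⟩
          step := fun i => l.step i }
      exact le_iSup (fun p : LTSeries {T : IrreducibleCloseds X // (T : Set X) ⊆ A} =>
        ((p.length : ℕ∞) : WithBot ℕ∞)) l'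
    · refine le_trans ?_ (le_max_right _ _)
      let l' : LTSeries {T : IrreducibleCloseds X // (T : Set X) ⊆ B} :=
        { length := l.length
          toFun := fun i => ⟨(l i).1, (hle i).trans h⟩
          step := fun i => l.step i }
      exact le_iSup (fun p : LTSeries {T : IrreducibleCloseds X // (T : Set X) ⊆ B} =>
        ((p.length : ℕ∞) : WithBot ℕ∞)) l'
  · exact max_le (dimX_mono Set.subset_union_left) (dimX_mono Set.subset_union_right)

/-- an irreducible closed set of dimension at least `n + 1` contains a proper irreducible closed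
subset of dimension at least `n`. -/
theorem exists_irreducible_sub {Y : Set X} (n : ℕ) (h : ((n + 1 : ℕ) : WithBot ℕ∞) ≤ dimX Y) :
    ∃ Y' : Set X, IsIrreducible Y' ∧ IsClosed Y' ∧ Y' ⊆ Y ∧ Y' ≠ Y ∧ (n : WithBot ℕ∞) ≤ dimX Y' := by
  obtain ⟨l, hl⟩ := le_krullDim_iff.mp h
  let i0 : Fin (l.length + 1) := ⟨n, by omega⟩
  let i1 : Fin (l.length + 1) := ⟨n + 1, by omega⟩
  have hlt : l i0 < l i1 := l.strictMono (by simp [i0, i1, Fin.lt_def])
  refine ⟨((l i0).1 : Set X), (l i0).1.isIrreducible, (l i0).1.isClosed, (l i0).2, ?_, ?_⟩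
  · intro heq
    have h1 : ((l i1).1 : Set X) ⊆ (l i0).1 := by rw [heq]; exact (l i1).2
    have h2 : (l i1).1 ≤ (l i0).1 := h1
    exact absurd (lt_of_lt_of_le hlt h2) (lt_irrefl _)
  · apply le_krullDim_iff.mpr
    let l' : LTSeries {T : IrreducibleCloseds X // (T : Set X) ⊆ ((l i0).1 : Set X)} :=
      { length := n
        toFun := fun i => ⟨(l ⟨i.1, by omega⟩).1,
          (show (l ⟨i.1, by omega⟩).1 ≤ (l i0).1 from
            l.monotone (by simp only [i0, Fin.le_def]; omega))⟩
        step := fun i => l.strictMono (by simp [Fin.lt_def]) }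
    exact ⟨l', rfl⟩

end Groth.Agent.H5.Deg
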