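import Mathlib
import Groth.Agent.Lib.Helper5.Deg.Deg2

/-! # Degree of Hilbert polynomials, part 6a: small arithmetic lemmas. -/

set_option autoImplicit false

namespace Groth.Agent.H5.Deg

open Polynomial TopologicalSpace Order

lemma natDegree_add_of_pos {P Q : ℚ[X]} (hP : 0 < P.leadingCoeff) (hQ : 0 < Q.leadingCoeff) :
    (P + Q).natDegree = max P.natDegree Q.natDegree := by
  rcases lt_trichotomy P.natDegree Q.natDegree with h | h | h
  · rw [natDegree_add_eq_right_of_natDegree_lt h, max_eq_right h.le]
  · rw [h, max_self]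
    apply natDegree_eq_of_le_of_coeff_ne_zero
    · exact (natDegree_add_le _ _).trans (by rw [h, max_self])
    · rw [coeff_add]
      have h1 : P.coeff Q.natDegree = P.leadingCoeff := by rw [← h]; rfl
      have h2 : Q.coeff Q.natDegree = Q.leadingCoeff := rfl
      rw [h1, h2]
      exact (add_pos hP hQ).ne'
  · rw [natDegree_add_eq_left_of_natDegree_lt h, max_eq_left h.le]

lemma leadingCoeff_add_pos {P Q : ℚ[X]} (hP : 0 < P.leadingCoeff) (hQ : 0 < Q.leadingCoeff) :
    0 < (P + Q).leadingCoeff := by
  rcases lt_trichotomy P.natDegree Q.natDegree with h | h | h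
  · rw [leadingCoeff_add_of_degree_lt (degree_lt_degree h)]; exact hQ
  · rw [leadingCoeff_add_of_degree_eq (by
      rw [degree_eq_natDegree (fun h0 => by simp [h0] at hP),
        degree_eq_natDegree (fun h0 => by simp [h0] at hQ), h]) (add_pos hP hQ).ne']
    exact add_pos hP hQ
  · rw [leadingCoeff_add_of_degree_lt' (degree_lt_degree h)]; exact hP

lemma le_natCast_of_forall {a : WithBot ℕ∞} {N : ℕ}
    (h : ∀ n : ℕ, ((n : ℕ) : WithBot ℕ∞) ≤ a → n ≤ N) : a ≤ ((N : ℕ) : WithBot ℕ∞) := by
  induction a using WithBot.recBotCoe with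
  | bot => exact bot_le
  | coe e =>
    induction e using ENat.recTopCoe with
    | top =>
      exfalso
      have := h (N + 1) (by exact_mod_cast le_top)
      omega
    | coe n₀ =>
      have := h n₀ le_rfl
      exact_mod_cast this

variable {X : Type*} [TopologicalSpace X]

lemma dimX_nonneg_of_mem {A : Set X} (hA : IsClosed A) {x : X} (hx : x ∈ A) : 0 ≤ dimX A := by
  unfold dimX
  haveI : Nonempty {T : IrreducibleCloseds X // (T : Set X) ⊆ A} :=
    ⟨⟨⟨closure {x}, isIrreducible_singleton.closure, isClosed_closure⟩,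
      (hA.closure_subset_iff.mpr (Set.singleton_subset_iff.mpr hx))⟩⟩
  exact krullDim_nonneg

end Groth.Agent.H5.Deg
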