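import Mathlib
import Groth.Agent.Lib.Helper5.Deg.Deg1
import Groth.Agent.Lib.Helper5.Deg.Deg3b
import Groth.Agent.Lib.Helper5.Deg.Deg4
import Groth.Agent.Lib.Helper5.Deg.Deg5
import Groth.Agent.Lib.Helper5.Deg.Deg6a
import Groth.Agent.Lib.Lead.QC.Devissage

/-! # Degree of Hilbert polynomials, part 6: the degree of the Hilbert polynomial of a coherent
module is the dimension of its support. -/

set_option autoImplicit false
universe u
open CategoryTheory CategoryTheory.Limits AlgebraicGeometry TopologicalSpace Opposite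

namespace Groth.Agent.H5.Deg

open Groth.Agent.LD Groth.Agent.LD.QC Groth.Agent.H5.HP Groth.Agent.H5.Curve4

variable (k : Type u) [Field k] (X : Scheme.{u}) [X.Over (Spec (CommRingCat.of k))]
  [IsProper (X ↘ Spec (CommRingCat.of k))] (L : X.Modules)

/-- the degree property. -/
def DegProp (M : X.Modules) : Prop :=
  ∀ P : Polynomial ℚ, ShStab.IsHilbPoly k X L M P →
    IsZero M ∨ ((P.natDegree : ℕ) : WithBot ℕ∞) = dimX (CohB1.support M)

variable {L} (hA : CohB1.IsAmple L)

include hA in
/-- the Hilbert polynomial of the cokernel of an injective multiplication by a section. -/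
theorem isHilbPoly_cokernel_twistBy (Q : X.Modules) (hQ : Coh.IsCoh Q) (m : ℕ)
    (σ : unitMod X ⟶ CohB1.tensorPow L m) [Mono (twistBy Q σ)] {P : Polynomial ℚ}
    (hP : ShStab.IsHilbPoly k X L Q P) :
    ShStab.IsHilbPoly k X L (cokernel (twistBy Q σ)) (diff P (m : ℚ)) := by
  haveI : Q.IsQuasicoherent := hQ.1
  have hQm := isCoh_twist X L hA.1 Q hQ m
  have hC := isCoh_cokernel (twistBy Q σ) hQ hQm
  obtain ⟨PC, hPC⟩ := exists_isHilbPoly k X L hA _ hC
  have hsum := isHilbPoly_unique k X L _ (isHilbPoly_twist k X L hA.1 Q m hP)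
    (isHilbPoly_add k X L hA.1 (shortExact_coker (twistBy Q σ)) hQ hQm hC hP hPC)
  have : diff P (m : ℚ) = PC := by
    unfold diff
    rw [hsum]; ring
  rw [this]; exact hPC

include hA in
theorem degProp_step (Y : Set X) (hYc : IsClosed Y) (hYi : IsIrreducible Y)
    (IH : ∀ M : X.Modules, Coh.IsCoh M → CohB1.support M ⊆ Y → CohB1.support M ≠ Y →
      DegProp k X L M)
    (Q : X.Modules) (hQ : Coh.IsCoh Q) (hQY : CohB1.support Q = Y) :
    ∃ (N : X.Modules) (j : N ⟶ Q), Mono j ∧ Coh.IsCoh N ∧ ¬ IsZero N ∧ DegProp k X L N := by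
  haveI := Curve.isLocallyNoetherian k X
  haveI : Q.IsQuasicoherent := hQ.1
  obtain ⟨η, hη⟩ := QuasiSober.sober hYi hYc
  have hηY : η ∈ Y := hη.mem
  by_cases hcase : ∃ (m : ℕ) (σ : unitMod X ⟶ CohB1.tensorPow L m),
      η ∈ CohB1.genLocus _ σ ∧ ¬ IsZero (kernel (twistBy Q σ))
  · obtain ⟨m, σ, hησ, hK⟩ := hcase
    have hQm := isCoh_twist X L hA.1 Q hQ m
    refine ⟨kernel (twistBy Q σ), kernel.ι _, inferInstance, isCoh_kernel _ hQ hQm, hK,
      IH _ (isCoh_kernel _ hQ hQm) ?_ ?_⟩
    · rw [← hQY]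
      exact (support_kernel_twistBy_subset Q σ).trans Set.sdiff_subset
    · intro heq
      have : η ∈ CohB1.support (kernel (twistBy Q σ)) := by rw [heq]; exact hηY
      exact (support_kernel_twistBy_subset Q σ this).2 hησ
  · push Not at hcase
    have hQ0 : ¬ IsZero Q := by
      intro h
      rw [support_eq_empty_of_isZero h] at hQY
      rw [← hQY] at hηY
      exact hηY
    refine ⟨Q, 𝟙 Q, inferInstance, hQ, hQ0, ?_⟩
    intro P hP
    right
    rw [hQY]
    -- supports of cokernels
    have hsuppC : ∀ (m : ℕ) (σ : unitMod X ⟶ CohB1.tensorPow L m), η ∈ CohB1.genLocus _ σ →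
        CohB1.support (cokernel (twistBy Q σ)) ⊆ Y ∧ CohB1.support (cokernel (twistBy Q σ)) ≠ Y := by
      intro m σ hησ
      have hs := support_cokernel_twistBy_subset Q hQ.2 (isInvertible_tensorPow hA.1 m) σ
      rw [hQY] at hs
      refine ⟨hs.trans Set.sdiff_subset, fun heq => ?_⟩
      have : η ∈ CohB1.support (cokernel (twistBy Q σ)) := by rw [heq]; exact hηY
      exact (hs this).2 hησ
    have key : ∀ (m : ℕ) (σ : unitMod X ⟶ CohB1.tensorPow L m), 0 < m →
        η ∈ CohB1.genLocus _ σ →
        (IsZero (cokernel (twistBy Q σ)) ∧ P.natDegree = 0) ∨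
        (¬ IsZero (cokernel (twistBy Q σ)) ∧ ((P.natDegree : ℕ) : WithBot ℕ∞) =
          dimX (CohB1.support (cokernel (twistBy Q σ))) + 1) := by
      intro m σ hm hησ
      haveI : Mono (twistBy Q σ) := mono_of_isZero_kernel _ (hcase m σ hησ)
      have hQm := isCoh_twist X L hA.1 Q hQ m
      have hC := isCoh_cokernel (twistBy Q σ) hQ hQm
      have hPC := isHilbPoly_cokernel_twistBy k X hA Q hQ m σ hP
      obtain ⟨hsub, hne⟩ := hsuppC m σ hησ
      have IHC := IH _ hC hsub hne _ hPC
      have hm' : (m : ℚ) ≠ 0 := by exact_mod_cast hm.ne'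
      rcases natDegree_eq_of_diff P (diff P (m : ℚ)) (m : ℚ) hm' rfl with ⟨h0, hn⟩ | ⟨hne0, hn⟩
      · left
        rw [h0] at hPC
        exact ⟨isZero_of_isHilbPoly_zero k X L hA _ hC hPC, hn⟩
      · right
        have hC0 : ¬ IsZero (cokernel (twistBy Q σ)) := fun hz =>
          hne0 (isHilbPoly_unique k X L _ hPC (isHilbPoly_of_isZero k X L hA.1 hz))
        refine ⟨hC0, ?_⟩
        rw [← IHC.resolve_left hC0, hn]
        push_cast
        rfl
    apply le_antisymm
    · obtain ⟨m, σ, hm, hησ⟩ := exists_section_mem_genLocus L hA η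
      rcases key m σ hm hησ with ⟨-, h0⟩ | ⟨-, h1⟩
      · rw [h0]
        exact_mod_cast dimX_nonneg_of_mem hYc hηY
      · rw [h1]
        obtain ⟨hsub, hne⟩ := hsuppC m σ hησ
        exact dimX_add_one_le hYi hYc hsub hne
    · apply le_natCast_of_forall
      intro n hn
      cases n with
      | zero => exact Nat.zero_le _
      | succ n' =>
        obtain ⟨Y', hY'i, hY'c, hY'Y, hY'ne, hn'⟩ := exists_irreducible_sub n' hn
        obtain ⟨η', hη'⟩ := QuasiSober.sober hY'i hY'c
        have hη'Y : η' ∈ Y := hY'Y hη'.mem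
        have hsp : η ⤳ η' := by
          rw [specializes_iff_mem_closure, hη.def]; exact hη'Y
        have hnsp : ¬ η' ⤳ η := by
          intro h
          apply hY'ne
          apply Set.Subset.antisymm hY'Y
          rw [← hη.def]
          apply hY'c.closure_subset_iff.mpr
          rw [Set.singleton_subset_iff, ← hη'.def]
          exact specializes_iff_mem_closure.mp h
        obtain ⟨m, σ, hm, hησ, hη'σ⟩ := exists_section_separating L hA η η' hsp hnsp
        have hQm := isCoh_twist X L hA.1 Q hQ m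
        have hC := isCoh_cokernel (twistBy Q σ) hQ hQm
        have hmem : η' ∈ CohB1.support (cokernel (twistBy Q σ)) :=
          mem_support_cokernel_twistBy Q hQ.2 (isInvertible_tensorPow hA.1 m) σ η'
            (by rw [hQY]; exact hη'Y) hη'σ
        rcases key m σ hm hησ with ⟨hz, -⟩ | ⟨-, h1⟩
        · exfalso
          rw [support_eq_empty_of_isZero hz] at hmem
          exact hmem
        · have hY'C : Y' ⊆ CohB1.support (cokernel (twistBy Q σ)) := by
            rw [← hη'.def]
            exact (isClosed_support_of_isCoh hC).closure_subset_iff.mpr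
              (Set.singleton_subset_iff.mpr hmem)
          have h2 : ((n' : ℕ) : WithBot ℕ∞) + 1 ≤ ((P.natDegree : ℕ) : WithBot ℕ∞) := by
            rw [h1]
            exact add_le_add_left (hn'.trans (dimX_mono hY'C)) 1
          exact_mod_cast h2

end Groth.Agent.H5.Deg
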