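import Mathlib
import Groth.Agent.Lib.Helper5.Deg.Deg6

/-! # Degree of Hilbert polynomials, part 7: the main theorem. -/

set_option autoImplicit false
universe u
open CategoryTheory CategoryTheory.Limits AlgebraicGeometry TopologicalSpace Opposite

namespace Groth.Agent.H5.Deg

open Groth.Agent.LD Groth.Agent.LD.QC Groth.Agent.H5.HP Groth.Agent.H5.Curve4

variable (k : Type u) [Field k] (X : Scheme.{u}) [X.Over (Spec (CommRingCat.of k))]
  [IsProper (X ↘ Spec (CommRingCat.of k))] {L : X.Modules} (hA : CohB1.IsAmple L)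

include hA in
theorem degProp_ext (S : ShortComplex X.Modules) (hS : S.ShortExact) (h₁ : Coh.IsCoh S.X₁)
    (h₂ : Coh.IsCoh S.X₂) (h₃ : Coh.IsCoh S.X₃) (p₁ : DegProp k X L S.X₁)
    (p₃ : DegProp k X L S.X₃) : DegProp k X L S.X₂ := by
  intro P₂ hP₂
  obtain ⟨P₁, hP₁⟩ := exists_isHilbPoly k X L hA _ h₁
  obtain ⟨P₃, hP₃⟩ := exists_isHilbPoly k X L hA _ h₃
  have hsum := isHilbPoly_unique k X L _ hP₂ (isHilbPoly_add k X L hA.1 hS h₁ h₂ h₃ hP₁ hP₃)
  have hsup := support_of_shortExact hS
  by_cases z1 : IsZero S.X₁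
  · have hP10 : P₁ = 0 := isHilbPoly_unique k X L _ hP₁ (isHilbPoly_of_isZero k X L hA.1 z1)
    rw [support_eq_empty_of_isZero z1, Set.empty_union] at hsup
    rw [hP10, zero_add] at hsum
    by_cases z3 : IsZero S.X₃
    · left
      apply isZero_of_support_eq_empty
      rw [hsup, support_eq_empty_of_isZero z3]
    · right
      rw [hsup, hsum]
      exact (p₃ P₃ hP₃).resolve_left z3
  · by_cases z3 : IsZero S.X₃
    · have hP30 : P₃ = 0 := isHilbPoly_unique k X L _ hP₃ (isHilbPoly_of_isZero k X L hA.1 z3)
      rw [support_eq_empty_of_isZero z3, Set.union_empty] at hsup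
      rw [hP30, add_zero] at hsum
      right
      rw [hsup, hsum]
      exact (p₁ P₁ hP₁).resolve_left z1
    · right
      have d1 := (p₁ P₁ hP₁).resolve_left z1
      have d3 := (p₃ P₃ hP₃).resolve_left z3
      have l1 := leadingCoeff_pos k X L hA _ h₁ z1 hP₁
      have l3 := leadingCoeff_pos k X L hA _ h₃ z3 hP₃
      rw [hsup, hsum, natDegree_add_of_pos l1 l3,
        dimX_union (isClosed_support_of_isCoh h₁) (isClosed_support_of_isCoh h₃), ← d1, ← d3]
      rcases le_total P₁.natDegree P₃.natDegree with h | h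
      · rw [max_eq_right h, max_eq_right (by exact_mod_cast h)]
      · rw [max_eq_left h, max_eq_left (by exact_mod_cast h)]

include hA in
/-- every coherent module satisfies the degree property. -/
theorem degProp_all (M : X.Modules) (hM : Coh.IsCoh M) : DegProp k X L M := by
  haveI := Curve.isLocallyNoetherian k X
  haveI := Curve.compactSpace k X
  haveI : IsNoetherian X := {}
  refine devissage_master (DegProp k X L) ?_ Set.univ ?_ ?_ ?_ M hM (Set.subset_univ _)
  · intro A B e hAc pA P hP
    have hP' := isHilbPoly_of_iso k X L e.symm hP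
    rcases pA P hP' with hz | hd
    · left; exact hz.of_iso e.symm
    · right; rw [← support_eq_of_iso e]; exact hd
  · intro Z hZ P _
    left; exact hZ
  · intro S hS h₁ h₂ h₃ _ p₁ p₃
    exact degProp_ext k X hA S hS h₁ h₂ h₃ p₁ p₃
  · intro Y hYc hYi _ IH Q hQ hQY
    exact degProp_step k X hA Y hYc hYi IH Q hQ hQY

include hA in
/-- **the degree of the Hilbert polynomial of a nonzero coherent module is the dimension of its
support.** -/
theorem natDegree_eq_dim (M : X.Modules) (hM : Coh.IsCoh M) (hM0 : ¬ IsZero M)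
    {P : Polynomial ℚ} (hP : ShStab.IsHilbPoly k X L M P) :
    ((P.natDegree : ℕ) : WithBot ℕ∞) = topologicalKrullDim (CohB1.support M) := by
  rw [topologicalKrullDim_eq_dimX (isClosed_support_of_isCoh hM)]
  exact (degProp_all k X hA M hM P hP).resolve_left hM0

include hA in
/-- if the support of a nonzero coherent module has dimension `d`, its Hilbert polynomial has
degree `d`. -/
theorem natDegree_eq_of_dim (M : X.Modules) (hM : Coh.IsCoh M) (hM0 : ¬ IsZero M)
    {P : Polynomial ℚ} (hP : ShStab.IsHilbPoly k X L M P) (d : ℕ)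
    (hd : topologicalKrullDim (CohB1.support M) = (d : WithBot ℕ∞)) : P.natDegree = d := by
  have h := natDegree_eq_dim k X hA M hM hM0 hP
  rw [hd] at h
  exact_mod_cast h

include hA in
/-- the multiplicity of a nonzero coherent module with support of dimension `d` is positive. -/
theorem alpha_pos (M : X.Modules) (hM : Coh.IsCoh M) (hM0 : ¬ IsZero M)
    {P : Polynomial ℚ} (hP : ShStab.IsHilbPoly k X L M P) (d : ℕ)
    (hd : topologicalKrullDim (CohB1.support M) = (d : WithBot ℕ∞)) : 0 < StabCat.alpha d P := by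
  have h := natDegree_eq_of_dim k X hA M hM hM0 hP d hd
  unfold StabCat.alpha
  have hl := leadingCoeff_pos k X L hA M hM hM0 hP
  rw [Polynomial.leadingCoeff, h] at hl
  have : (0 : ℚ) < (d.factorial : ℚ) := by exact_mod_cast Nat.factorial_pos d
  positivity

end Groth.Agent.H5.Deg
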